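import Groth.Agent.CAlg4.FibreDimCompact
import Groth.Agent.E4O.FibreComp
import Groth.Agent.AffNorm62.OpenTarget
import Groth.Agent.S0402
import Groth.Agent.Cons62.Basic
import Mathlib.AlgebraicGeometry.Morphisms.FinitePresentation

/-! The strata of the fibre dimension are constructible. -/

universe u

open CategoryTheory AlgebraicGeometry TopologicalSpace Topology

namespace Groth.Agent.CM62

variable {X Y : Scheme.{u}}

theorem fibreDimAt_of_square (f : X ⟶ Y) [LocallyOfFiniteType f] {X' Y' : Scheme.{u}} (e : X' ⟶ X)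
    [IsOpenImmersion e] (j : Y' ⟶ Y) [IsOpenImmersion j] (h : X' ⟶ Y') [LocallyOfFiniteType h]
    (comm : h ≫ j = e ≫ f) (q : X') : FlatMor.fibreDimAt f (e q) = FlatMor.fibreDimAt h q := by
  have hd : ∀ t, E4O.fdeg h t = E4O.fdeg f (e t) := fun t => by
    rw [← AffNorm62.fdeg_comp_right_openImmersion h j t, comm, E4O.fdeg_comp_openImmersion]
  have happ : ∀ t, j (h t) = f (e t) := fun t => by
    rw [← Scheme.Hom.comp_apply, comm, Scheme.Hom.comp_apply]
  obtain ⟨z, hz, hfz, hzd, -, -⟩ := E4O.exists_fibreDimAt_eq f (e q)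
  obtain ⟨t, rfl⟩ := hz.mem_open e.isOpenEmbedding.isOpen_range ⟨q, rfl⟩
  obtain ⟨w, hw, hfw, hwd, -, -⟩ := E4O.exists_fibreDimAt_eq h q
  refine le_antisymm ?_ ?_
  · rw [hzd, ← hd]
    exact E4O.fdeg_le_fibreDimAt (e.isOpenEmbedding.isInducing.specializes_iff.1 hz)
      (j.isOpenEmbedding.injective (by rw [happ, happ, hfz]))
  · rw [hwd, hd]
    exact E4O.fdeg_le_fibreDimAt (hw.map e.continuous) (by rw [← happ, ← happ, hfw])

theorem isCompact_fibreDimAt_le_inter (f : X ⟶ Y) [LocallyOfFinitePresentation f] (n : ℕ)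
    {W : X.Opens} (hW : IsAffineOpen W) {V : Y.Opens} (hV : IsAffineOpen V) (hWV : W ≤ f ⁻¹ᵁ V) :
    IsCompact ({x : X | FlatMor.fibreDimAt f x ≤ (n : ℕ)} ∩ W) := by
  let φ := f.appLE V W hWV
  algebraize [φ.hom]
  have hfp : φ.hom.FinitePresentation :=
    LocallyOfFinitePresentation.finitePresentation_appLE f hV hW hWV
  have : Algebra.FinitePresentation Γ(Y, V) Γ(X, W) := hfp
  have := hW.isOpenImmersion_fromSpec
  have := hV.isOpenImmersion_fromSpec
  have comm : Spec.map φ ≫ hV.fromSpec = hW.fromSpec ≫ f :=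
    IsAffineOpen.SpecMap_appLE_fromSpec f hV hW hWV
  have : LocallyOfFiniteType (Spec.map φ) :=
    (HasRingHomProperty.Spec_iff (P := @LocallyOfFiniteType)).2
      (RingHom.FiniteType.of_finitePresentation hfp)
  have key : ∀ q, FlatMor.fibreDimAt f (hW.fromSpec q) = FlatMor.fibreDimAt (Spec.map φ) q :=
    fun q => fibreDimAt_of_square f hW.fromSpec hV.fromSpec (Spec.map φ) comm q
  have hset : {x : X | FlatMor.fibreDimAt f x ≤ (n : ℕ)} ∩ W =
      hW.fromSpec '' CAlg4.FibreDimCompact.U Γ(Y, V) Γ(X, W) n := by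
    ext x
    constructor
    · rintro ⟨hx, hxW⟩
      obtain ⟨q, rfl⟩ := hW.range_fromSpec.ge hxW
      refine ⟨q, fun Q hQ => ?_, rfl⟩
      rw [CAlg4.FibreDimCompact.localDim_eq_fibreDimAt _ _ q Q hQ]
      refine le_trans (le_of_eq ?_) ((key q).symm.le.trans hx)
      rfl
    · rintro ⟨q, hq, rfl⟩
      refine ⟨?_, hW.range_fromSpec.le ⟨q, rfl⟩⟩
      obtain ⟨Q, hQ⟩ := CAlg4.FibreDimCompact.exists_point Γ(Y, V) Γ(X, W) q
      have := hq Q hQ
      rw [CAlg4.FibreDimCompact.localDim_eq_fibreDimAt _ _ q Q hQ] at this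
      exact (key q).le.trans this
  rw [hset]
  exact (CAlg4.FibreDimCompact.isCompact_U Γ(Y, V) Γ(X, W) n).image hW.fromSpec.continuous

theorem isRetrocompact_fibreDimAt_le (f : X ⟶ Y) [LocallyOfFinitePresentation f] (n : ℕ) :
    IsRetrocompact {x : X | FlatMor.fibreDimAt f x ≤ (n : ℕ)} := by
  intro K hKc hKo
  let ι := {W : X.Opens // IsAffineOpen W ∧ (W : Set X) ⊆ K ∧ ∃ V : Y.Opens, IsAffineOpen V ∧ W ≤ f ⁻¹ᵁ V}
  have hcov : K ⊆ ⋃ W : ι, (W.1 : Set X) := fun x hx => by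
    obtain ⟨V, hV, hyV, -⟩ := exists_isAffineOpen_mem_and_subset (X := Y) (x := f x) (U := ⊤) trivial
    obtain ⟨W, hW, hxW, hWK⟩ := exists_isAffineOpen_mem_and_subset (X := X) (x := x)
      (U := (⟨K, hKo⟩ : X.Opens) ⊓ f ⁻¹ᵁ V) ⟨hx, hyV⟩
    exact Set.mem_iUnion.2 ⟨⟨W, hW, fun a ha => (hWK ha).1, V, hV, fun a ha => (hWK ha).2⟩, hxW⟩
  obtain ⟨t, ht⟩ := hKc.elim_finite_subcover _ (fun W : ι => W.1.isOpen) hcov
  have heq : {x : X | FlatMor.fibreDimAt f x ≤ (n : ℕ)} ∩ K =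
      ⋃ W ∈ t, {x : X | FlatMor.fibreDimAt f x ≤ (n : ℕ)} ∩ (W.1 : Set X) := by
    ext x
    simp only [Set.mem_inter_iff, Set.mem_iUnion, exists_prop]
    constructor
    · rintro ⟨hx, hxK⟩
      obtain ⟨W, hWt, hxW⟩ := Set.mem_iUnion₂.1 (ht hxK)
      exact ⟨W, hWt, hx, hxW⟩
    · rintro ⟨W, -, hx, hxW⟩
      exact ⟨hx, W.2.2.1 hxW⟩
  rw [heq]
  refine t.finite_toSet.isCompact_biUnion fun W _ => ?_
  obtain ⟨V, hV, hle⟩ := W.2.2.2
  exact isCompact_fibreDimAt_le_inter f n W.2.1 hV hle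

theorem isLocallyConstructible_fibreDimAt_le (f : X ⟶ Y) [LocallyOfFinitePresentation f] (n : ℕ) :
    IsLocallyConstructible {x : X | FlatMor.fibreDimAt f x ≤ (n : ℕ)} :=
  (isRetrocompact_fibreDimAt_le f n).isLocallyConstructible (S0402.result f n)

theorem isLocallyConstructible_fibreDimAt_eq (f : X ⟶ Y) [LocallyOfFinitePresentation f] (n : ℕ) :
    IsLocallyConstructible {x : X | FlatMor.fibreDimAt f x = (n : ℕ)} := by
  cases n with
  | zero =>
    convert! isLocallyConstructible_fibreDimAt_le f 0 using 1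
    ext x
    simp only [Set.mem_setOf_eq]
    refine ⟨le_of_eq, fun h => le_antisymm h ?_⟩
    obtain ⟨z, -, -, hd, -, -⟩ := E4O.exists_fibreDimAt_eq f x
    rw [hd]
    exact_mod_cast Nat.zero_le _
  | succ m =>
    have heq : {x : X | FlatMor.fibreDimAt f x = ((m + 1 : ℕ) : ℕ)} =
        {x : X | FlatMor.fibreDimAt f x ≤ ((m + 1 : ℕ) : ℕ)} \ {x : X | FlatMor.fibreDimAt f x ≤ (m : ℕ)} := by
      ext x
      obtain ⟨z, -, -, hd, -, -⟩ := E4O.exists_fibreDimAt_eq f x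
      simp only [Set.mem_setOf_eq, Set.mem_diff, hd]
      norm_cast
      omega
    rw [heq]
    exact IsLocallyConstructible.inter (isLocallyConstructible_fibreDimAt_le f (m + 1))
      (Cons62.isLocallyConstructible_compl (isLocallyConstructible_fibreDimAt_le f m))

end Groth.Agent.CM62
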