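import Groth.Agent.FlatMor68.CMComp
import Groth.Agent.Dim62.Local
import Groth.Agent.AffNorm62.FibreGeneric
import Groth.Agent.CAlg1.CMPoly
import Groth.Agent.EGA4Alg4.FibreDim
import Groth.Prelude.Def_MoreMor

/-!
Cohen–Macaulay morphisms: local invariance, quasi-finite morphisms, affine space.
-/

universe u

open CategoryTheory CategoryTheory.Limits AlgebraicGeometry IsLocalRing

namespace Groth.Agent.CM62

variable {X Y : Scheme.{u}}

/-- `dim O_{X_y,x} + deg x = dim_x X_y`. -/
theorem exists_fibre_dim (f : X ⟶ Y) [LocallyOfFiniteType f] (x : X) :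
    ∃ k : ℕ, ringKrullDim ((f.fiber (f x)).presheaf.stalk (f.asFiber x)) = (k : ℕ) ∧
      FlatMor.fibreDimAt f x = ((k + E4O.fdeg f x : ℕ) : WithBot ℕ∞) := by
  obtain ⟨C, ⟨q, rfl⟩, -⟩ := E4O.exists_chart f x
  obtain ⟨k, hk, hD⟩ := Dim62.exists_fibre_data C q
  exact ⟨k, by rw [Dim62.ringKrullDim_fibre, hk]; rfl, hD⟩

/-- The local ring of the fibre as a quotient. -/
abbrev FibQuot (f : X ⟶ Y) (x : X) : Type u :=
  X.presheaf.stalk x ⧸ (maximalIdeal (Y.presheaf.stalk (f x))).map (f.stalkMap x).hom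

theorem ringKrullDim_fibQuot (f : X ⟶ Y) (x : X) :
    ringKrullDim (FibQuot f x) = ringKrullDim ((f.fiber (f x)).presheaf.stalk (f.asFiber x)) :=
  ringKrullDim_eq_of_ringEquiv (FlatMor68.FibreStalk.fibreStalkEquivAt f x)

theorem isNoetherianRing_fibQuot (f : X ⟶ Y) [LocallyOfFiniteType f] (x : X) :
    IsNoetherianRing (FibQuot f x) := by
  have : LocallyOfFiniteType (f.fiberToSpecResidueField (f x)) :=
    MorphismProperty.of_isPullback (P := @LocallyOfFiniteType) (IsPullback.of_hasPullback f (Y.fromSpecResidueField (f x))) ‹_›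
  exact FlatMor68.CMComp.noetherian_fibre f x
    (LocallyOfFiniteType.isLocallyNoetherian (f.fiberToSpecResidueField (f x)))

theorem isLocalRing_fibQuot (f : X ⟶ Y) (x : X) : IsLocalRing (FibQuot f x) := by
  have hle : (maximalIdeal (Y.presheaf.stalk (f x))).map (f.stalkMap x).hom ≤
      maximalIdeal (X.presheaf.stalk x) :=
    Ideal.map_le_iff_le_comap.2 fun t ht => map_nonunit (f.stalkMap x).hom t ht
  have : Nontrivial (FibQuot f x) :=
    Ideal.Quotient.nontrivial_iff.2 (ne_top_of_le_ne_top (maximalIdeal.isMaximal _).ne_top hle)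
  exact IsLocalRing.of_surjective' _ Ideal.Quotient.mk_surjective

/-- The fibre of a morphism quasi-finite at a point is zero-dimensional there. -/
theorem ringKrullDim_fibre_eq_zero (f : X ⟶ Y) [LocallyOfFiniteType f] (x : X)
    (hx : f.QuasiFiniteAt x) :
    ringKrullDim ((f.fiber (f x)).presheaf.stalk (f.asFiber x)) = 0 := by
  obtain ⟨k, hk, hD⟩ := exists_fibre_dim f x
  obtain ⟨z, hz, hfz, hd, -, -⟩ := E4O.exists_fibreDimAt_eq f x
  have hzq : f.QuasiFiniteAt z := hz.mem_open f.quasiFiniteLocus.isOpen hx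
  rw [hd, VarGal.fdeg_eq_zero_of_quasiFiniteAt f hzq, VarGal.fdeg_eq_zero_of_quasiFiniteAt f hx] at hD
  have : k = 0 := by exact_mod_cast hD.symm
  rw [hk, this]
  rfl

/-- A flat morphism quasi-finite at a point is Cohen–Macaulay there. -/
theorem isCMAt_of_quasiFiniteAt (f : X ⟶ Y) [LocallyOfFiniteType f] (x : X)
    (hx : f.QuasiFiniteAt x) (hfl : (f.stalkMap x).hom.Flat) : MoreMor.IsCMAt f x := by
  refine ⟨hfl, (FlatMor68.CMComp.cm_fibre_iff f x).2 ?_⟩
  have := isNoetherianRing_fibQuot f x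
  have := isLocalRing_fibQuot f x
  refine CAlg1.cmLocal_iff.2 ?_
  rw [ringKrullDim_fibQuot, ringKrullDim_fibre_eq_zero f x hx]
  exact WithBot.coe_le_coe.2 zero_le

/-- Being Cohen–Macaulay is local on the source. -/
theorem isCMAt_openImmersion_comp_iff {U : Scheme.{u}} (j : U ⟶ X) [IsOpenImmersion j]
    (f : X ⟶ Y) (x : U) : MoreMor.IsCMAt (j ≫ f) x ↔ MoreMor.IsCMAt f (j x) := by
  have hbij : Function.Bijective (j.stalkMap x).hom :=
    (ConcreteCategory.isIso_iff_bijective (j.stalkMap x)).1 inferInstance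
  let e : X.presheaf.stalk (j x) ≃+* U.presheaf.stalk x := RingEquiv.ofBijective _ hbij
  have hcomp : ((j ≫ f).stalkMap x).hom = e.toRingHom.comp (f.stalkMap (j x)).hom := by
    rw [Scheme.Hom.stalkMap_comp]; rfl
  have hmap : ((maximalIdeal (Y.presheaf.stalk (f (j x)))).map (f.stalkMap (j x)).hom).map e.toRingHom =
      (maximalIdeal (Y.presheaf.stalk ((j ≫ f) x))).map ((j ≫ f).stalkMap x).hom := by
    rw [hcomp]
    exact Ideal.map_map _ _
  let E : FibQuot f (j x) ≃+* FibQuot (j ≫ f) x := Ideal.quotientEquiv _ _ e hmap.symm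
  refine Iff.and ?_ ?_
  · rw [Scheme.Hom.stalkMap_comp]
    exact RingHom.Flat.respectsIso.cancel_right_isIso (f.stalkMap (j x)) (j.stalkMap x)
  · rw [FlatMor68.CMComp.cm_fibre_iff, FlatMor68.CMComp.cm_fibre_iff]
    exact ⟨CAlg1.cm_of_ringEquiv E.symm, CAlg1.cm_of_ringEquiv E⟩

instance flat_affineSpace_over (n : Type u) : Flat (𝔸(n; Y) ↘ Y) := by
  refine MorphismProperty.of_isPullback (P := @Flat) (IsPullback.of_hasPullback _ _).flip ?_
  let h : (Spec (CommRingCat.of (MvPolynomial n (ULift.{u} ℤ)))) ⟶ Spec (CommRingCat.of (ULift.{u} ℤ)) :=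
    Spec.map (CommRingCat.ofHom MvPolynomial.C)
  have : Flat h := (HasRingHomProperty.Spec_iff (P := @Flat)).2
    (RingHom.flat_algebraMap_iff.2 (inferInstance : Module.Flat (ULift.{u} ℤ) (MvPolynomial n (ULift.{u} ℤ))))
  have : IsIso (terminal.from (Spec (CommRingCat.of (ULift.{u} ℤ)))) :=
    ⟨specULiftZIsTerminal.from _, specULiftZIsTerminal.hom_ext _ _, terminal.hom_ext _ _⟩
  rw [terminal.hom_ext (terminal.from _) (h ≫ terminal.from _)]
  infer_instance

/-- The fibres of affine space have regular local rings. -/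
theorem isRegularLocalRing_fibre_affineSpace (n : Type u) [Finite n] (a : ↥𝔸(n; Y)) :
    IsRegularLocalRing (((𝔸(n; Y) ↘ Y).fiber ((𝔸(n; Y) ↘ Y) a)).presheaf.stalk
      ((𝔸(n; Y) ↘ Y).asFiber a)) := by
  let r := Y.fromSpecResidueField ((𝔸(n; Y) ↘ Y) a)
  let K : Type u := Y.residueField ((𝔸(n; Y) ↘ Y) a)
  let i : Spec (CommRingCat.of (MvPolynomial n K)) ≅ (𝔸(n; Y) ↘ Y).fiber ((𝔸(n; Y) ↘ Y) a) :=
    (AffineSpace.SpecIso n (CommRingCat.of K)).symm ≪≫
      (AffineSpace.isPullback_map (n := n) r).isoPullback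
  let w := (𝔸(n; Y) ↘ Y).asFiber a
  have hw : i.hom (i.inv w) = w := by rw [← Scheme.Hom.comp_apply, i.inv_hom_id]; rfl
  have hreg : IsRegularLocalRing ((Spec (CommRingCat.of (MvPolynomial n K))).presheaf.stalk (i.inv w)) := by
    let q : PrimeSpectrum (MvPolynomial n K) := i.inv w
    have := IsRegularRing.isRegularLocalRing_localization (R := MvPolynomial n K) q.asIdeal
    let _ : Algebra (MvPolynomial n K) ((Spec (CommRingCat.of (MvPolynomial n K))).presheaf.stalk (i.inv w)) :=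
      StructureSheaf.stalkAlgebra (MvPolynomial n K) q
    have : IsLocalization.AtPrime ((Spec (CommRingCat.of (MvPolynomial n K))).presheaf.stalk (i.inv w)) q.asIdeal :=
      StructureSheaf.IsLocalization.to_stalk (MvPolynomial n K) q
    exact IsRegularLocalRing.of_ringEquiv
      (IsLocalization.algEquiv q.asIdeal.primeCompl (Localization.AtPrime q.asIdeal)
        ((Spec (CommRingCat.of (MvPolynomial n K))).presheaf.stalk (i.inv w))).toRingEquiv
  have := IsRegularLocalRing.of_ringEquiv (RingEquiv.ofBijective _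
    ((ConcreteCategory.isIso_iff_bijective (i.hom.stalkMap (i.inv w))).1 inferInstance)).symm
  rw [hw] at this
  exact this

/-- Affine space is Cohen–Macaulay over the base. -/
theorem isCMAt_affineSpace (n : Type u) [Finite n] (a : ↥𝔸(n; Y)) :
    MoreMor.IsCMAt (𝔸(n; Y) ↘ Y) a :=
  ⟨Flat.stalkMap _ _, by
    have := isRegularLocalRing_fibre_affineSpace n a
    exact CAlg1.cm_of_isRegularLocalRing _⟩

end Groth.Agent.CM62
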