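import Groth.Agent.CAlg1.Miracle
import Groth.Agent.EGA4Alg4.FibreDim

/-! Flatness of the fibre of a quasi-finite local homomorphism onto a Cohen–Macaulay ring. -/

universe u

open IsLocalRing

namespace Groth.Agent.CM62

/-- If `A/J` is regular, `B/JB` is Cohen–Macaulay of at least the same dimension and `B/m_A B` is
zero-dimensional, then `B/JB` is flat over `A/J`. -/
theorem flat_quotient_of_dims {A B : Type u} [CommRing A] [CommRing B] [Algebra A B]
    [IsLocalRing A] [IsLocalRing B] [IsLocalHom (algebraMap A B)] (J : Ideal A)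
    [IsRegularLocalRing (A ⧸ J)] [LocCoh.IsCohenMacaulayLocalRing (B ⧸ J.map (algebraMap A B))]
    (hge : ringKrullDim (A ⧸ J) ≤ ringKrullDim (B ⧸ J.map (algebraMap A B)))
    (h0 : ringKrullDim (B ⧸ (maximalIdeal A).map (algebraMap A B)) = 0) :
    Module.Flat (A ⧸ J) (B ⧸ (J • ⊤ : Submodule A B)) := by
  have hJ : J ≤ maximalIdeal A := le_maximalIdeal fun h => by
    have := Ideal.Quotient.subsingleton_iff.2 h
    exact false_of_nontrivial_of_subsingleton (A ⧸ J)
  let I := J.map (algebraMap A B)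
  let φ : A ⧸ J →+* B ⧸ I := Ideal.quotientMap I (algebraMap A B) Ideal.le_comap_map
  let _ : Algebra (A ⧸ J) (B ⧸ I) := φ.toAlgebra
  have : IsScalarTower A (A ⧸ J) (B ⧸ I) := .of_algebraMap_eq fun a => rfl
  have hmap : (maximalIdeal (A ⧸ J)) = (maximalIdeal A).map (Ideal.Quotient.mk J) := by
    refine le_antisymm (fun x hx => ?_) (Ideal.map_le_iff_le_comap.2 fun a ha => ?_)
    · obtain ⟨a, rfl⟩ := Ideal.Quotient.mk_surjective x
      exact Ideal.mem_map_of_mem _ fun hu => hx (hu.map _)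
    · have : IsLocalHom (Ideal.Quotient.mk J) :=
        IsLocalHom.of_surjective _ Ideal.Quotient.mk_surjective
      exact map_nonunit _ a ha
  have : IsLocalHom (algebraMap (A ⧸ J) (B ⧸ I)) := ⟨fun a ha => by
    obtain ⟨a, rfl⟩ := Ideal.Quotient.mk_surjective a
    have : IsLocalHom (Ideal.Quotient.mk I) :=
      IsLocalHom.of_surjective _ Ideal.Quotient.mk_surjective
    exact (IsUnit.of_map (algebraMap A B) a (IsUnit.of_map (Ideal.Quotient.mk I) _ ha)).map _⟩
  have hle : I ≤ (maximalIdeal A).map (algebraMap A B) := Ideal.map_mono hJ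
  have hm : (maximalIdeal (A ⧸ J)).map (algebraMap (A ⧸ J) (B ⧸ I)) =
      ((maximalIdeal A).map (algebraMap A B)).map (Ideal.Quotient.mk I) := by
    rw [hmap, Ideal.map_map, Ideal.map_map]
    rfl
  have h0' : ringKrullDim ((B ⧸ I) ⧸ (maximalIdeal (A ⧸ J)).map (algebraMap (A ⧸ J) (B ⧸ I))) = 0 := by
    rw [← h0]
    exact ringKrullDim_eq_of_ringEquiv
      ((Ideal.quotEquivOfEq hm).trans (DoubleQuot.quotQuotEquivQuotOfLE hle))
  have hle' := Groth.Agent.EGA4Alg4.ringKrullDim_le_add_fibre (A ⧸ J) (B ⧸ I)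
  rw [h0', add_zero] at hle'
  have hflat : Module.Flat (A ⧸ J) (B ⧸ I) :=
    Groth.Agent.CAlg1.miracle_flatness _ (A ⧸ J) (B ⧸ I) rfl
      (by rw [h0', add_zero]; exact le_antisymm hle' hge)
  let e : (B ⧸ (J • ⊤ : Submodule A B)) ≃ₗ[A] B ⧸ I :=
    Submodule.quotEquivOfEq _ (I.restrictScalars A) (Ideal.smul_top_eq_map J) ≪≫ₗ
      Submodule.Quotient.restrictScalarsEquiv A I
  exact Module.Flat.of_linearEquiv (e.extendScalarsOfSurjective Ideal.Quotient.mk_surjective)

end Groth.Agent.CM62
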