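import Groth.Agent.CM62.Basic
import Groth.Agent.CM62.FlatQuot
import Groth.Agent.FlatMor67.FibCritModule
import Groth.Agent.FlatMor67.StalkEssFP
import Groth.Agent.S3394
import Groth.Agent.S3395
import Groth.Agent.S0386
import Groth.Agent.SchBasics.FPCancel
import Groth.Agent.AffNorm62.OpenTarget

/-!
EGA IV 12.1 / 17.16: Cohen–Macaulay morphisms as flat quasi-finite covers of affine space.
-/

universe u

open CategoryTheory CategoryTheory.Limits AlgebraicGeometry IsLocalRing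

namespace Groth.Agent.CM62

variable {X Y : Scheme.{u}}

/-- A flat quasi-finite morphism to affine space makes the composite Cohen–Macaulay. -/
theorem isCMAt_of_comp (f : X ⟶ Y) [LocallyOfFiniteType f] {n : ℕ} {U : X.Opens}
    (g : (U : Scheme.{u}) ⟶ 𝔸(ULift.{u} (Fin n); Y))
    (hg : g ≫ (𝔸(ULift.{u} (Fin n); Y) ↘ Y) = U.ι ≫ f) (x : (U : Scheme.{u}))
    (hqf : g.QuasiFiniteAt x) (hfl : (g.stalkMap x).hom.Flat) : MoreMor.IsCMAt f (U.ι x) := by
  have : LocallyOfFiniteType (g ≫ (𝔸(ULift.{u} (Fin n); Y) ↘ Y)) := by rw [hg]; infer_instance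
  have : LocallyOfFiniteType g := locallyOfFiniteType_of_comp g (𝔸(ULift.{u} (Fin n); Y) ↘ Y)
  let π := 𝔸(ULift.{u} (Fin n); Y) ↘ Y
  have : LocallyOfFiniteType ((g ≫ π).fiberToSpecResidueField (π (g x))) :=
    MorphismProperty.of_isPullback (P := @LocallyOfFiniteType)
      (IsPullback.of_hasPullback (g ≫ π) (Y.fromSpecResidueField (π (g x)))) inferInstance
  have h := FlatMor68.CMComp.t9766 g π x
    (LocallyOfFiniteType.isLocallyNoetherian ((g ≫ π).fiberToSpecResidueField (π (g x))))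
    (isCMAt_of_quasiFiniteAt g x hqf hfl) (isCMAt_affineSpace _ _)
  rw [hg] at h
  exact (isCMAt_openImmersion_comp_iff U.ι f x).1 h

/-- Near every point there is a quasi-finite morphism to affine space of the dimension of the
fibre at that point. -/
theorem exists_qf_toAffineSpace (f : X ⟶ Y) [LocallyOfFiniteType f] (x : X) (n : ℕ)
    (hn : FlatMor.fibreDimAt f x = n) :
    ∃ (U : X.Opens) (g : (U : Scheme.{u}) ⟶ 𝔸(ULift.{u} (Fin n); Y)), x ∈ U ∧
      g ≫ (𝔸(ULift.{u} (Fin n); Y) ↘ Y) = U.ι ≫ f ∧ LocallyQuasiFinite g := by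
  obtain ⟨U, hxU, hU⟩ := E4O.exists_open_forall_fibreDimAt_le f x
  obtain ⟨V, hV, hyV, -⟩ :=
    exists_isAffineOpen_mem_and_subset (x := f x) (U := (⊤ : Y.Opens)) trivial
  obtain ⟨W, hW, hxW, hWsub⟩ :=
    exists_isAffineOpen_mem_and_subset (x := x) (U := U ⊓ f ⁻¹ᵁ V) ⟨hxU, hyV⟩
  have : IsAffine W := hW
  have : IsAffine V := hV
  have hWV : W ≤ f ⁻¹ᵁ V := fun a ha => (hWsub ha).2
  let fW : (W : Scheme.{u}) ⟶ V := f.resLE V W hWV
  have hfW : fW ≫ V.ι = W.ι ≫ f := Scheme.Hom.resLE_comp_ι _ _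
  have : LocallyOfFiniteType (fW ≫ V.ι) := by rw [hfW]; infer_instance
  have : LocallyOfFiniteType fW := locallyOfFiniteType_of_comp fW V.ι
  have hfd : ∀ w, E4O.fdeg fW w = E4O.fdeg f (W.ι w) := fun w => by
    rw [← AffNorm62.fdeg_comp_right_openImmersion fW V.ι w, hfW, E4O.fdeg_comp_openImmersion]
  let x0 : (W : Scheme.{u}) := ⟨x, hxW⟩
  have he : topologicalKrullDim ↥(fW.fiber (fW x0)) = n := by
    refine le_antisymm ((E4O.dim_fiber_le_iff _ _ _).2 fun w _ => ?_) ?_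
    · rw [hfd, ← hn]
      exact (E4O.fdeg_le_fibreDimAt specializes_rfl rfl).trans (hU _ (hWsub w.2).1)
    · obtain ⟨a, ha, hfa, hd, -, -⟩ := E4O.exists_fibreDimAt_eq f x
      let a0 : (W : Scheme.{u}) := ⟨a, ha.mem_open W.isOpen hxW⟩
      have h1 := E4O.le_dim_fiber fW a0
      have h2 : fW a0 = fW x0 := V.ι.isOpenEmbedding.injective (by
        erw [← Scheme.Hom.comp_apply, ← Scheme.Hom.comp_apply, hfW]
        exact hfa)
      rw [hfd, h2] at h1
      rw [← hn, hd]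
      exact h1
  obtain ⟨g0, hg0, hfin⟩ := S3394.result fW (fW x0) ⟨x0, rfl⟩ n he
  obtain ⟨-, U', hU', hqf⟩ := S3395.result fW (fW x0) ⟨x0, rfl⟩ n he g0 hg0 hfin
  have : IsOpenImmersion (AffineSpace.map (ULift.{u} (Fin n)) V.ι) :=
    MorphismProperty.of_isPullback (P := @IsOpenImmersion)
      (AffineSpace.isPullback_map (n := ULift.{u} (Fin n)) V.ι).flip inferInstance
  let g : ((W.ι ''ᵁ U' : X.Opens) : Scheme.{u}) ⟶ 𝔸(ULift.{u} (Fin n); Y) :=
    (W.ι.isoImage U').inv ≫ (U'.ι ≫ g0) ≫ AffineSpace.map (ULift.{u} (Fin n)) V.ι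
  refine ⟨W.ι ''ᵁ U', g, ⟨x0, hU' rfl, rfl⟩, ?_, inferInstance⟩
  simp only [g, Category.assoc, AffineSpace.map_over]
  erw [reassoc_of% hg0, hfW, Scheme.Hom.isoImage_inv_ι_assoc]

/-- A quasi-finite morphism to affine space of the fibre dimension is flat at a
Cohen–Macaulay point. -/
theorem flat_stalkMap_of_isCMAt (f : X ⟶ Y) [LocallyOfFinitePresentation f] {n : ℕ} {U : X.Opens}
    (g : (U : Scheme.{u}) ⟶ 𝔸(ULift.{u} (Fin n); Y))
    (hg : g ≫ (𝔸(ULift.{u} (Fin n); Y) ↘ Y) = U.ι ≫ f) (x : (U : Scheme.{u}))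
    (hqf : g.QuasiFiniteAt x) (hn : FlatMor.fibreDimAt f (U.ι x) = n)
    (h : MoreMor.IsCMAt f (U.ι x)) : (g.stalkMap x).hom.Flat := by
  let π := 𝔸(ULift.{u} (Fin n); Y) ↘ Y
  have : LocallyOfFinitePresentation (g ≫ π) := by
    change LocallyOfFinitePresentation (g ≫ (𝔸(ULift.{u} (Fin n); Y) ↘ Y))
    rw [hg]; infer_instance
  have : LocallyOfFiniteType g := locallyOfFiniteType_of_comp g π
  let a := g x
  let C := Y.presheaf.stalk (π a)
  let A := 𝔸(ULift.{u} (Fin n); Y).presheaf.stalk a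
  let B := (U : Scheme.{u}).presheaf.stalk x
  let _ : Algebra C A := (π.stalkMap a).hom.toAlgebra
  let _ : Algebra A B := (g.stalkMap x).hom.toAlgebra
  let _ : Algebra C B := ((g ≫ π).stalkMap x).hom.toAlgebra
  have : IsScalarTower C A B := .of_algebraMap_eq' (by
    show ((g ≫ π).stalkMap x).hom = _
    rw [Scheme.Hom.stalkMap_comp]; rfl)
  have : IsLocalHom (algebraMap C A) := inferInstanceAs (IsLocalHom (π.stalkMap a).hom)
  have : IsLocalHom (algebraMap A B) := inferInstanceAs (IsLocalHom (g.stalkMap x).hom)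
  have hcm : MoreMor.IsCMAt (g ≫ π) x := by
    change MoreMor.IsCMAt (g ≫ (𝔸(ULift.{u} (Fin n); Y) ↘ Y)) x
    rw [hg]; exact (isCMAt_openImmersion_comp_iff U.ι f x).2 h
  have : Module.Flat C B := hcm.1
  let J : Ideal A := (maximalIdeal C).map (algebraMap C A)
  have hJ : J.map (algebraMap A B) = (maximalIdeal C).map (algebraMap C B) := by
    rw [Ideal.map_map, ← IsScalarTower.algebraMap_eq]
  have : IsRegularLocalRing (A ⧸ J) := by
    have := isRegularLocalRing_fibre_affineSpace (ULift.{u} (Fin n)) a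
    exact IsRegularLocalRing.of_ringEquiv (FlatMor68.FibreStalk.fibreStalkEquivAt π a).symm
  have : LocCoh.IsCohenMacaulayLocalRing (B ⧸ J.map (algebraMap A B)) :=
    CAlg1.cm_of_ringEquiv (Ideal.quotEquivOfEq hJ.symm)
      ((FlatMor68.CMComp.cm_fibre_iff (g ≫ π) x).1 hcm.2)
  have h0 : ringKrullDim (B ⧸ (maximalIdeal A).map (algebraMap A B)) = 0 :=
    (ringKrullDim_fibQuot g x).trans (ringKrullDim_fibre_eq_zero g x hqf)
  have hge : ringKrullDim (A ⧸ J) ≤ ringKrullDim (B ⧸ J.map (algebraMap A B)) := by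
    obtain ⟨kA, hkA, hDA⟩ := exists_fibre_dim π a
    obtain ⟨kB, hkB, hDB⟩ := exists_fibre_dim (g ≫ π) x
    obtain ⟨z, -, -, hdz, -, -⟩ := E4O.exists_fibreDimAt_eq π a
    have hd : E4O.fdeg (g ≫ π) x = E4O.fdeg π a :=
      AffNorm62.fdeg_comp_eq_of_quasiFiniteAt g π x hqf
    have hD : FlatMor.fibreDimAt (g ≫ π) x = n := by
      change FlatMor.fibreDimAt (g ≫ (𝔸(ULift.{u} (Fin n); Y) ↘ Y)) x = _
      obtain ⟨z₁, hz₁, hfz₁, hd₁, hmax₁, -⟩ := E4O.exists_fibreDimAt_eq (U.ι ≫ f) x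
      obtain ⟨z₂, hz₂, hfz₂, hd₂, -, -⟩ := E4O.exists_fibreDimAt_eq f (U.ι x)
      obtain ⟨w, rfl⟩ := hz₂.mem_open U.ι.isOpenEmbedding.isOpen_range ⟨x, rfl⟩
      rw [hg]
      refine le_antisymm ?_ ?_
      · rw [hd₁, E4O.fdeg_comp_openImmersion, ← hn]
        exact E4O.fdeg_le_fibreDimAt (hz₁.map U.ι.continuous) hfz₁
      · rw [← hn, hd₂, ← E4O.fdeg_comp_openImmersion]
        exact E4O.fdeg_le_fibreDimAt (U.ι.isOpenEmbedding.isInducing.specializes_iff.1 hz₂) hfz₂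
    have hA : ringKrullDim (A ⧸ J) = kA :=
      (ringKrullDim_eq_of_ringEquiv (FlatMor68.FibreStalk.fibreStalkEquivAt π a)).trans hkA
    have hB : ringKrullDim (B ⧸ J.map (algebraMap A B)) = kB :=
      (ringKrullDim_eq_of_ringEquiv ((Ideal.quotEquivOfEq hJ).trans
        (FlatMor68.FibreStalk.fibreStalkEquivAt (g ≫ π) x))).trans hkB
    rw [hA, hB]
    have hle := AffNorm62.fdeg_over_le n z
    rw [hdz] at hDA
    rw [hD, hd] at hDB
    norm_cast at hDA hDB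
    simp only [π] at hDA hDB hle ⊢
    exact_mod_cast (by omega : kA ≤ kB)
  have hfl := flat_quotient_of_dims J hge h0
  obtain ⟨m, σ, hσ⟩ := FlatMor67.exists_gen_stalk π a
  exact ((FlatMor67.fibre_criterion_essFT_iff (M := B) σ hσ
    (FlatMor67.essFP_stalk (g ≫ π) x)).1 ⟨inferInstance, hfl⟩).2

/-- A Cohen–Macaulay point has a neighbourhood quasi-finite and flat over affine space. -/
theorem exists_flat_qf_toAffineSpace (f : X ⟶ Y) [LocallyOfFinitePresentation f] (x : X) (n : ℕ)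
    (hn : FlatMor.fibreDimAt f x = n) (h : MoreMor.IsCMAt f x) :
    ∃ (U : X.Opens) (g : (U : Scheme.{u}) ⟶ 𝔸(ULift.{u} (Fin n); Y)), x ∈ U ∧
      g ≫ (𝔸(ULift.{u} (Fin n); Y) ↘ Y) = U.ι ≫ f ∧ LocallyQuasiFinite g ∧ Flat g := by
  obtain ⟨U, g, hxU, hg, hqf⟩ := exists_qf_toAffineSpace f x n hn
  have : LocallyOfFinitePresentation (g ≫ (𝔸(ULift.{u} (Fin n); Y) ↘ Y)) := by
    rw [hg]; infer_instance
  have : LocallyOfFiniteType g := locallyOfFiniteType_of_comp g (𝔸(ULift.{u} (Fin n); Y) ↘ Y)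
  have : LocallyOfFinitePresentation g :=
    SchBasics.locallyOfFinitePresentation_of_comp g (𝔸(ULift.{u} (Fin n); Y) ↘ Y)
  have hfx := flat_stalkMap_of_isCMAt f g hg ⟨x, hxU⟩ (g.quasiFiniteAt _) hn h
  let U' : (U : Scheme.{u}).Opens := ⟨{z | (g.stalkMap z).hom.Flat}, S0386.result g⟩
  have hfl : Flat (U'.ι ≫ g) := (Flat.iff_flat_stalkMap _).2 fun z => by
    rw [Scheme.Hom.stalkMap_comp]
    exact RingHom.Flat.comp z.2 (RingHom.Flat.of_bijective
      ((ConcreteCategory.isIso_iff_bijective (U'.ι.stalkMap z)).1 inferInstance))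
  refine ⟨U.ι ''ᵁ U', (U.ι.isoImage U').inv ≫ U'.ι ≫ g, ⟨⟨x, hxU⟩, hfx, rfl⟩, ?_,
    inferInstance, inferInstance⟩
  simp only [Category.assoc, hg]
  exact Scheme.Hom.isoImage_inv_ι_assoc _ _ _

end Groth.Agent.CM62
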