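import Groth.Agent.CM62.Criterion
import Mathlib.AlgebraicGeometry.Morphisms.UniversallyOpen

/-! Fibre dimension is constant along a flat quasi-finite morphism to affine space. -/

universe u

open CategoryTheory AlgebraicGeometry

namespace Groth.Agent.CM62

variable {X Y : Scheme.{u}}

theorem fibreDimAt_eq (f : X ⟶ Y) [LocallyOfFiniteType f] {n : ℕ} {U : X.Opens}
    (g : (U : Scheme.{u}) ⟶ 𝔸(ULift.{u} (Fin n); Y))
    (hg : g ≫ (𝔸(ULift.{u} (Fin n); Y) ↘ Y) = U.ι ≫ f) [LocallyQuasiFinite g] [Flat g]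
    (a : (U : Scheme.{u})) : FlatMor.fibreDimAt f (U.ι a) = n := by
  let π := 𝔸(ULift.{u} (Fin n); Y) ↘ Y
  have : LocallyOfFiniteType (g ≫ π) := by
    change LocallyOfFiniteType (g ≫ (𝔸(ULift.{u} (Fin n); Y) ↘ Y))
    rw [hg]; infer_instance
  have : LocallyOfFiniteType g := locallyOfFiniteType_of_comp g π
  obtain ⟨z, hz, hfz, hd, -, hgen⟩ := E4O.exists_fibreDimAt_eq f (U.ι a)
  obtain ⟨w, rfl⟩ := hz.mem_open U.ι.isOpenEmbedding.isOpen_range ⟨a, rfl⟩
  have hw : ∀ c : (U : Scheme.{u}), π (g c) = f (U.ι c) := fun c => by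
    rw [← Scheme.Hom.comp_apply, ← Scheme.Hom.comp_apply, hg]
  have hdw : E4O.fdeg f (U.ι w) = E4O.fdeg π (g w) := by
    rw [← E4O.fdeg_comp_openImmersion U.ι f w, ← hg]
    exact AffNorm62.fdeg_comp_eq_of_quasiFiniteAt g π w (g.quasiFiniteAt w)
  obtain ⟨b, hb, hbd, hbb⟩ := AffNorm62.exists_generic n (π (g w))
  obtain ⟨c, hc, hcb⟩ := Flat.generalizingMap g (a := w) (b := b) (hbb _ rfl)
  have hcw : c = w := U.ι.isOpenEmbedding.injective (hgen _ (hc.map U.ι.continuous)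
    (by rw [← hw, hcb, hb, hw, hfz]))
  rw [hd, hdw, ← hcw, hcb, hbd]

end Groth.Agent.CM62
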