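import Groth.Agent.CM62.Criterion
import Groth.Agent.Fib62.Scheme
import Groth.Agent.QC70.UnitSub
import Groth.Agent.LimTop61.AmpleStage

/-!
The fibre is Cohen–Macaulay at a point iff a quasi-finite morphism to affine space of the fibre
dimension is flat on the fibres there (no flatness over the base).
-/

universe u

open CategoryTheory AlgebraicGeometry IsLocalRing

namespace Groth.Agent.CM62

/-- If `B/JB` is flat over the regular ring `A/J` with zero-dimensional closed fibre, it is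
Cohen–Macaulay. -/
theorem cm_of_flat_quotient {A B : Type u} [CommRing A] [CommRing B] [Algebra A B]
    [IsLocalRing A] [IsLocalRing B] [IsLocalHom (algebraMap A B)] (J : Ideal A)
    [IsRegularLocalRing (A ⧸ J)] [IsNoetherianRing (B ⧸ J.map (algebraMap A B))]
    (h0 : ringKrullDim (B ⧸ (maximalIdeal A).map (algebraMap A B)) = 0)
    (hflat : Module.Flat (A ⧸ J) (B ⧸ (J • ⊤ : Submodule A B))) :
    LocCoh.IsCohenMacaulayLocalRing (B ⧸ J.map (algebraMap A B)) := by
  have hJ : J ≤ maximalIdeal A := le_maximalIdeal fun h => by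
    have := Ideal.Quotient.subsingleton_iff.2 h
    exact false_of_nontrivial_of_subsingleton (A ⧸ J)
  let I := J.map (algebraMap A B)
  have hIm : I ≤ maximalIdeal B :=
    Ideal.map_le_iff_le_comap.2 fun t ht => map_nonunit (algebraMap A B) t (hJ ht)
  have : Nontrivial (B ⧸ I) :=
    Ideal.Quotient.nontrivial_iff.2 (ne_top_of_le_ne_top (maximalIdeal.isMaximal B).ne_top hIm)
  have : IsLocalRing (B ⧸ I) := IsLocalRing.of_surjective' _ Ideal.Quotient.mk_surjective
  let φ : A ⧸ J →+* B ⧸ I := Ideal.quotientMap I (algebraMap A B) Ideal.le_comap_map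
  let _ : Algebra (A ⧸ J) (B ⧸ I) := φ.toAlgebra
  have : IsScalarTower A (A ⧸ J) (B ⧸ I) := .of_algebraMap_eq fun a => rfl
  have hmap : (maximalIdeal (A ⧸ J)) = (maximalIdeal A).map (Ideal.Quotient.mk J) := by
    refine le_antisymm (fun x hx => ?_) (Ideal.map_le_iff_le_comap.2 fun a ha => ?_)
    · obtain ⟨a, rfl⟩ := Ideal.Quotient.mk_surjective x
      exact Ideal.mem_map_of_mem _ fun hu => hx (hu.map _)
    · have : IsLocalHom (Ideal.Quotient.mk J) :=
        IsLocalHom.of_surjective _ Ideal.Quotient.mk_surjective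
      exact map_nonunit _ a ha
  have : IsLocalHom (algebraMap (A ⧸ J) (B ⧸ I)) := ⟨fun a ha => by
    obtain ⟨a, rfl⟩ := Ideal.Quotient.mk_surjective a
    have : IsLocalHom (Ideal.Quotient.mk I) :=
      IsLocalHom.of_surjective _ Ideal.Quotient.mk_surjective
    exact (IsUnit.of_map (algebraMap A B) a (IsUnit.of_map (Ideal.Quotient.mk I) _ ha)).map _⟩
  have hle : I ≤ (maximalIdeal A).map (algebraMap A B) := Ideal.map_mono hJ
  have hm : (maximalIdeal (A ⧸ J)).map (algebraMap (A ⧸ J) (B ⧸ I)) =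
      ((maximalIdeal A).map (algebraMap A B)).map (Ideal.Quotient.mk I) := by
    rw [hmap, Ideal.map_map, Ideal.map_map]
    rfl
  let e : (B ⧸ (J • ⊤ : Submodule A B)) ≃ₗ[A] B ⧸ I :=
    Submodule.quotEquivOfEq _ (I.restrictScalars A) (Ideal.smul_top_eq_map J) ≪≫ₗ
      Submodule.Quotient.restrictScalarsEquiv A I
  have : Module.Flat (A ⧸ J) (B ⧸ I) :=
    Module.Flat.of_linearEquiv (e.extendScalarsOfSurjective Ideal.Quotient.mk_surjective).symm
  refine (FlatMor68.CMComp.cm_iff (A ⧸ J) (B ⧸ I)).2 ⟨CAlg1.cm_of_isRegularLocalRing _, ?_⟩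
  let E : EGA4.FibRing (A ⧸ J) (B ⧸ I) ≃+* B ⧸ (maximalIdeal A).map (algebraMap A B) :=
    (Ideal.quotEquivOfEq hm).trans (DoubleQuot.quotQuotEquivQuotOfLE hle)
  have hd : ringKrullDim (EGA4.FibRing (A ⧸ J) (B ⧸ I)) = 0 :=
    (ringKrullDim_eq_of_ringEquiv E).trans h0
  have : Nontrivial (EGA4.FibRing (A ⧸ J) (B ⧸ I)) := by
    by_contra hn
    rw [not_nontrivial_iff_subsingleton] at hn
    rw [ringKrullDim_eq_bot_of_subsingleton] at hd
    exact WithBot.bot_ne_zero hd
  have : IsLocalRing (EGA4.FibRing (A ⧸ J) (B ⧸ I)) :=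
    IsLocalRing.of_surjective' _ Ideal.Quotient.mk_surjective
  refine CAlg1.cmLocal_iff.2 ?_
  rw [hd]
  exact WithBot.coe_le_coe.2 zero_le

variable {X Y Z : Scheme.{u}}

theorem fibFlatAt_structureModule_iff (g : X ⟶ Z) (π : Z ⟶ Y) (x : X) :
    Fib62.FibFlatAt g π (Coh.structureModule X) x ↔
      letI := (g.stalkMap x).hom.toAlgebra
      Module.Flat (Z.presheaf.stalk (g x) ⧸
          (maximalIdeal (Y.presheaf.stalk (π (g x)))).map (π.stalkMap (g x)).hom)
        (X.presheaf.stalk x ⧸ ((maximalIdeal (Y.presheaf.stalk (π (g x)))).map (π.stalkMap (g x)).hom •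
          (⊤ : Submodule (Z.presheaf.stalk (g x)) (X.presheaf.stalk x)))) := by
  let _ : Algebra (Z.presheaf.stalk (g x)) (X.presheaf.stalk x) := (g.stalkMap x).hom.toAlgebra
  let A := Z.presheaf.stalk (g x)
  let M := (Coh.structureModule X).presheaf.stalk x
  let _ : Module A M := FlatMod.moduleStalkOver g (Coh.structureModule X) x
  have : IsScalarTower A (X.presheaf.stalk x) M := IsScalarTower.of_algebraMap_smul fun _ _ => rfl
  let e : X.presheaf.stalk x ≃ₗ[A] M := (QC70.unitStalkEquiv x).restrictScalars A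
  let J := (maximalIdeal (Y.presheaf.stalk (π (g x)))).map (π.stalkMap (g x)).hom
  exact (Module.Flat.equiv_iff
    ((Submodule.Quotient.equiv (J • ⊤ : Submodule A (X.presheaf.stalk x)) (J • ⊤ : Submodule A M) e
      (by rw [Submodule.map_smul'', Submodule.map_top, LinearEquiv.range])).extendScalarsOfSurjective
        Ideal.Quotient.mk_surjective)).symm

theorem cm_fibre_iff_fibFlatAt (f : X ⟶ Y) [LocallyOfFiniteType f] {n : ℕ} {U : X.Opens}
    (g : (U : Scheme.{u}) ⟶ 𝔸(ULift.{u} (Fin n); Y))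
    (hg : g ≫ (𝔸(ULift.{u} (Fin n); Y) ↘ Y) = U.ι ≫ f) (x : (U : Scheme.{u}))
    (hqf : g.QuasiFiniteAt x) (hn : FlatMor.fibreDimAt f (U.ι x) = n) :
    LocCoh.IsCohenMacaulayLocalRing ((f.fiber (f (U.ι x))).presheaf.stalk (f.asFiber (U.ι x))) ↔
      Fib62.FibFlatAt g (𝔸(ULift.{u} (Fin n); Y) ↘ Y) (Coh.structureModule (U : Scheme.{u})) x := by
  let π := 𝔸(ULift.{u} (Fin n); Y) ↘ Y
  have : LocallyOfFiniteType (g ≫ π) := by
    change LocallyOfFiniteType (g ≫ (𝔸(ULift.{u} (Fin n); Y) ↘ Y))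
    rw [hg]; infer_instance
  have : LocallyOfFiniteType g := locallyOfFiniteType_of_comp g π
  let a := g x
  let C := Y.presheaf.stalk (π a)
  let A := 𝔸(ULift.{u} (Fin n); Y).presheaf.stalk a
  let B := (U : Scheme.{u}).presheaf.stalk x
  let _ : Algebra A B := (g.stalkMap x).hom.toAlgebra
  have : IsLocalHom (algebraMap A B) := inferInstanceAs (IsLocalHom (g.stalkMap x).hom)
  let J : Ideal A := (maximalIdeal C).map (π.stalkMap a).hom
  have hJ : J.map (algebraMap A B) = (maximalIdeal C).map ((g ≫ π).stalkMap x).hom := by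
    rw [Ideal.map_map, Scheme.Hom.stalkMap_comp]
    rfl
  have : IsRegularLocalRing (A ⧸ J) := by
    have := isRegularLocalRing_fibre_affineSpace (ULift.{u} (Fin n)) a
    exact IsRegularLocalRing.of_ringEquiv (FlatMor68.FibreStalk.fibreStalkEquivAt π a).symm
  have hiff : LocCoh.IsCohenMacaulayLocalRing ((f.fiber (f (U.ι x))).presheaf.stalk (f.asFiber (U.ι x))) ↔
      LocCoh.IsCohenMacaulayLocalRing (B ⧸ J.map (algebraMap A B)) := by
    let hbij : Function.Bijective (U.ι.stalkMap x).hom :=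
      (ConcreteCategory.isIso_iff_bijective (U.ι.stalkMap x)).1 inferInstance
    let e : X.presheaf.stalk (U.ι x) ≃+* B := RingEquiv.ofBijective _ hbij
    have hmap : ((maximalIdeal (Y.presheaf.stalk (f (U.ι x)))).map (f.stalkMap (U.ι x)).hom).map e.toRingHom =
        (maximalIdeal (Y.presheaf.stalk ((U.ι ≫ f) x))).map ((U.ι ≫ f).stalkMap x).hom := by
      rw [Scheme.Hom.stalkMap_comp]
      exact Ideal.map_map _ _
    let E : FibQuot f (U.ι x) ≃+* FibQuot (U.ι ≫ f) x := Ideal.quotientEquiv _ _ e hmap.symm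
    rw [FlatMor68.CMComp.cm_fibre_iff f (U.ι x)]
    have h1 : LocCoh.IsCohenMacaulayLocalRing (FibQuot f (U.ι x)) ↔
        LocCoh.IsCohenMacaulayLocalRing (FibQuot (U.ι ≫ f) x) :=
      ⟨CAlg1.cm_of_ringEquiv E, CAlg1.cm_of_ringEquiv E.symm⟩
    rw [h1]
    have h2 : ∀ k : (U : Scheme.{u}) ⟶ Y, k = g ≫ π → (LocCoh.IsCohenMacaulayLocalRing (FibQuot k x) ↔
        LocCoh.IsCohenMacaulayLocalRing (B ⧸ J.map (algebraMap A B))) := by
      rintro _ rfl
      exact ⟨CAlg1.cm_of_ringEquiv (Ideal.quotEquivOfEq hJ.symm),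
        CAlg1.cm_of_ringEquiv (Ideal.quotEquivOfEq hJ)⟩
    exact h2 _ hg.symm
  have : IsNoetherianRing (B ⧸ J.map (algebraMap A B)) := by
    have := isNoetherianRing_fibQuot (g ≫ π) x
    exact isNoetherianRing_of_ringEquiv (FibQuot (g ≫ π) x) (Ideal.quotEquivOfEq hJ.symm)
  have h0 : ringKrullDim (B ⧸ (maximalIdeal A).map (algebraMap A B)) = 0 :=
    (ringKrullDim_fibQuot g x).trans (ringKrullDim_fibre_eq_zero g x hqf)
  have hge : ringKrullDim (A ⧸ J) ≤ ringKrullDim (B ⧸ J.map (algebraMap A B)) := by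
    obtain ⟨kA, hkA, hDA⟩ := exists_fibre_dim π a
    obtain ⟨kB, hkB, hDB⟩ := exists_fibre_dim (g ≫ π) x
    obtain ⟨z, -, -, hdz, -, -⟩ := E4O.exists_fibreDimAt_eq π a
    have hd : E4O.fdeg (g ≫ π) x = E4O.fdeg π a :=
      AffNorm62.fdeg_comp_eq_of_quasiFiniteAt g π x hqf
    have hD : FlatMor.fibreDimAt (g ≫ π) x = n := by
      change FlatMor.fibreDimAt (g ≫ (𝔸(ULift.{u} (Fin n); Y) ↘ Y)) x = _
      obtain ⟨z₁, hz₁, hfz₁, hd₁, -, -⟩ := E4O.exists_fibreDimAt_eq (U.ι ≫ f) x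
      obtain ⟨z₂, hz₂, hfz₂, hd₂, -, -⟩ := E4O.exists_fibreDimAt_eq f (U.ι x)
      obtain ⟨w, rfl⟩ := hz₂.mem_open U.ι.isOpenEmbedding.isOpen_range ⟨x, rfl⟩
      rw [hg]
      refine le_antisymm ?_ ?_
      · rw [hd₁, E4O.fdeg_comp_openImmersion, ← hn]
        exact E4O.fdeg_le_fibreDimAt (hz₁.map U.ι.continuous) hfz₁
      · rw [← hn, hd₂, ← E4O.fdeg_comp_openImmersion]
        exact E4O.fdeg_le_fibreDimAt (U.ι.isOpenEmbedding.isInducing.specializes_iff.1 hz₂) hfz₂
    have hA : ringKrullDim (A ⧸ J) = kA :=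
      (ringKrullDim_eq_of_ringEquiv (FlatMor68.FibreStalk.fibreStalkEquivAt π a)).trans hkA
    have hB : ringKrullDim (B ⧸ J.map (algebraMap A B)) = kB :=
      (ringKrullDim_eq_of_ringEquiv ((Ideal.quotEquivOfEq hJ).trans
        (FlatMor68.FibreStalk.fibreStalkEquivAt (g ≫ π) x))).trans hkB
    rw [hA, hB]
    have hle := AffNorm62.fdeg_over_le n z
    rw [hdz] at hDA
    rw [hD, hd] at hDB
    norm_cast at hDA hDB
    simp only [π] at hDA hDB hle ⊢
    exact_mod_cast (by omega : kA ≤ kB)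
  rw [hiff, fibFlatAt_structureModule_iff]
  exact ⟨fun h => flat_quotient_of_dims J hge h0, fun h => cm_of_flat_quotient J h0 h⟩

end Groth.Agent.CM62
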