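import Groth.Agent.CM62.FibreCrit
import Groth.Agent.CM62.DimStrata

/-! The Cohen–Macaulay locus of the fibres is constructible. -/

universe u

open CategoryTheory AlgebraicGeometry TopologicalSpace Topology

namespace Groth.Agent.CM62

theorem isCompact_of_isConstructible {R : CommRingCat.{u}} {s : Set (Spec R)}
    (hs : IsConstructible s) : IsCompact s := by
  refine IsConstructible.induction_of_isTopologicalBasis
    (fun r : R => ((Spec R).basicOpen ((Scheme.ΓSpecIso R).inv r) : Set (Spec R))) ?_ ?_ ?_ ?_ s hs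
  · convert! PrimeSpectrum.isTopologicalBasis_basic_opens (R := R) using 1
    congr 1
    funext r
    exact congrArg SetLike.coe (basicOpen_eq_of_affine r)
  · exact fun r => ((isAffineOpen_top (Spec R)).basicOpen _).isCompact
  · intro i t ht
    rw [Set.sdiff_eq]
    exact ((isAffineOpen_top (Spec R)).basicOpen _).isCompact.inter_right
      (isOpen_biUnion fun j _ => ((Spec R).basicOpen ((Scheme.ΓSpecIso R).inv j)).isOpen).isClosed_compl
  · exact fun s _ t _ h₁ h₂ => h₁.union h₂

theorem isCompact_of_isConstructible_of_isAffine {X : Scheme.{u}} [IsAffine X] {s : Set X}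
    (hs : IsConstructible s) : IsCompact s := by
  let h := X.isoSpec.inv.homeomorph
  have h1 := isCompact_of_isConstructible (R := Γ(X, ⊤))
    (hs.preimage_of_isOpenEmbedding h.isOpenEmbedding)
  have h2 := h1.image h.continuous
  rwa [Set.image_preimage_eq _ h.surjective] at h2

variable {X Y : Scheme.{u}}

/-- The locus where the local ring of the fibre is Cohen–Macaulay. -/
def cmFibreLocus (f : X ⟶ Y) : Set X :=
  {x : X | LocCoh.IsCohenMacaulayLocalRing ((f.fiber (f.base x)).presheaf.stalk (f.asFiber x))}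

theorem preimage_cmFibreLocus {U : Scheme.{u}} (j : U ⟶ X) [IsOpenImmersion j] (f : X ⟶ Y) :
    j ⁻¹' cmFibreLocus f = cmFibreLocus (j ≫ f) := by
  ext x
  have hbij : Function.Bijective (j.stalkMap x).hom :=
    (ConcreteCategory.isIso_iff_bijective (j.stalkMap x)).1 inferInstance
  let e : X.presheaf.stalk (j x) ≃+* U.presheaf.stalk x := RingEquiv.ofBijective _ hbij
  have hmap : ((IsLocalRing.maximalIdeal (Y.presheaf.stalk (f (j x)))).map (f.stalkMap (j x)).hom).map e.toRingHom =
      (IsLocalRing.maximalIdeal (Y.presheaf.stalk ((j ≫ f) x))).map ((j ≫ f).stalkMap x).hom := by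
    rw [Scheme.Hom.stalkMap_comp]
    exact Ideal.map_map _ _
  let E : FibQuot f (j x) ≃+* FibQuot (j ≫ f) x := Ideal.quotientEquiv _ _ e hmap.symm
  refine Iff.trans (FlatMor68.CMComp.cm_fibre_iff f (j x)) (Iff.trans ?_
    (FlatMor68.CMComp.cm_fibre_iff (j ≫ f) x).symm)
  exact ⟨CAlg1.cm_of_ringEquiv E, CAlg1.cm_of_ringEquiv E.symm⟩

/-- A constructible neighbourhood on which the dimension and CM conditions are tested. -/
theorem exists_nhd_piece [IsAffine X] (f : X ⟶ Y) [LocallyOfFinitePresentation f] (x : X) (n : ℕ)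
    (hn : FlatMor.fibreDimAt f x = n) :
    ∃ (U : X.Opens), x ∈ U ∧
      IsConstructible ((U : Set X) ∩ ({x | FlatMor.fibreDimAt f x = (n : ℕ)} ∩ cmFibreLocus f)) := by
  obtain ⟨U₀, g₀, hxU₀, hg₀, hqf₀⟩ := exists_qf_toAffineSpace f x n hn
  obtain ⟨U, hU, hxU, hUU₀⟩ := exists_isAffineOpen_mem_and_subset (x := x) (U := U₀) hxU₀
  have hle : U ≤ U₀ := fun a ha => hUU₀ ha
  let g : (U : Scheme.{u}) ⟶ 𝔸(ULift.{u} (Fin n); Y) := X.homOfLE hle ≫ g₀
  have hg : g ≫ (𝔸(ULift.{u} (Fin n); Y) ↘ Y) = U.ι ≫ f := by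
    simp only [g, Category.assoc, hg₀, Scheme.homOfLE_ι_assoc]
  have hqf : LocallyQuasiFinite g := inferInstance
  have : LocallyOfFinitePresentation (g ≫ (𝔸(ULift.{u} (Fin n); Y) ↘ Y)) := by
    rw [hg]; infer_instance
  have : LocallyOfFiniteType g := locallyOfFiniteType_of_comp g (𝔸(ULift.{u} (Fin n); Y) ↘ Y)
  have : IsAffine (U : Scheme.{u}) := hU
  have h1 := Fib62.isLocallyConstructible_fibFlatAt g (𝔸(ULift.{u} (Fin n); Y) ↘ Y)
    (Coh.structureModule (U : Scheme.{u})) (LimTop61.isQuasicoherent_structureModule _)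
    (LimTop61.isFP_structureModule' _)
  have h2 := (isLocallyConstructible_fibreDimAt_eq f n).preimage_of_isOpenEmbedding U.ι.isOpenEmbedding
  have h3 := (h2.inter h1).isConstructible.image_of_isOpenEmbedding U.ι.isOpenEmbedding (by
    rw [Scheme.Opens.range_ι]; exact hU.isCompact.isRetrocompact U.isOpen)
  refine ⟨U, hxU, ?_⟩
  convert! h3 using 1
  ext a
  constructor
  · rintro ⟨haU, hd, hcm⟩
    exact ⟨⟨a, haU⟩, ⟨hd, (cm_fibre_iff_fibFlatAt f g hg ⟨a, haU⟩ (g.quasiFiniteAt _) hd).1 hcm⟩, rfl⟩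
  · rintro ⟨b, ⟨hd, hfl⟩, rfl⟩
    exact ⟨b.2, hd, (cm_fibre_iff_fibFlatAt f g hg b (g.quasiFiniteAt _) hd).2 hfl⟩

theorem isConstructible_cmFibreLocus [IsAffine X] (f : X ⟶ Y) [LocallyOfFinitePresentation f] :
    IsConstructible (cmFibreLocus f) := by
  classical
  let E : ℕ → Set X := fun n => {x | FlatMor.fibreDimAt f x = (n : ℕ)}
  have key : ∀ n, IsConstructible (E n ∩ cmFibreLocus f) := fun n => by
    have hK : IsCompact (E n) :=
      isCompact_of_isConstructible_of_isAffine (isLocallyConstructible_fibreDimAt_eq f n).isConstructible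
    have hch : ∀ p : E n, ∃ (U : X.Opens), (p : X) ∈ U ∧
        IsConstructible ((U : Set X) ∩ (E n ∩ cmFibreLocus f)) := fun p => exists_nhd_piece f p.1 n p.2
    choose U hpU hU using hch
    obtain ⟨t, ht⟩ := hK.elim_finite_subcover (fun p => (U p : Set X)) (fun p => (U p).isOpen)
      fun a ha => Set.mem_iUnion.2 ⟨⟨a, ha⟩, hpU ⟨a, ha⟩⟩
    have heq : E n ∩ cmFibreLocus f = ⋃ p ∈ t, ((U p : Set X) ∩ (E n ∩ cmFibreLocus f)) := by
      ext a
      simp only [Set.mem_inter_iff, Set.mem_iUnion, exists_prop]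
      constructor
      · rintro ⟨ha, hc⟩
        obtain ⟨p, hp, hap⟩ := Set.mem_iUnion₂.1 (ht ha)
        exact ⟨p, hp, hap, ha, hc⟩
      · rintro ⟨p, -, -, h⟩
        exact h
    rw [heq]
    exact IsConstructible.biUnion t.finite_toSet fun p _ => hU p
  obtain ⟨s, hs⟩ := isCompact_univ.elim_finite_subcover
    (fun n : ℕ => {x : X | FlatMor.fibreDimAt f x ≤ (n : ℕ)}) (fun n => S0402.result f n) fun a _ => by
      obtain ⟨z, -, -, hd, -, -⟩ := E4O.exists_fibreDimAt_eq f a
      exact Set.mem_iUnion.2 ⟨_, hd.le⟩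
  have heq : cmFibreLocus f = ⋃ n ∈ Finset.range (s.sup id + 1), (E n ∩ cmFibreLocus f) := by
    ext a
    simp only [Set.mem_iUnion, Set.mem_inter_iff, Finset.mem_range, exists_prop]
    constructor
    · intro ha
      obtain ⟨z, -, -, hd, -, -⟩ := E4O.exists_fibreDimAt_eq f a
      obtain ⟨n, hn, han⟩ := Set.mem_iUnion₂.1 (hs (Set.mem_univ a))
      refine ⟨E4O.fdeg f z, ?_, hd, ha⟩
      have han' : ((E4O.fdeg f z : ℕ) : WithBot ℕ∞) ≤ (n : ℕ) := hd ▸ han
      have h4 : E4O.fdeg f z ≤ n := by exact_mod_cast han'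
      have h5 : n ≤ s.sup id := Finset.le_sup (f := id) hn
      omega
    · rintro ⟨n, -, -, h⟩
      exact h
  rw [heq]
  exact IsConstructible.biUnion (Finset.range _).finite_toSet fun n _ => key n

theorem isLocallyConstructible_cmFibreLocus (f : X ⟶ Y) [LocallyOfFinitePresentation f] :
    IsLocallyConstructible (cmFibreLocus f) := by
  refine .of_isOpenCover (U := fun V : X.affineOpens => V.1)
    (TopologicalSpace.IsOpenCover.mk (iSup_affineOpens_eq_top X)) fun V => ?_
  have : IsAffine (V.1 : Scheme.{u}) := V.2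
  show IsLocallyConstructible (V.1.ι ⁻¹' cmFibreLocus f)
  rw [preimage_cmFibreLocus]
  exact (isConstructible_cmFibreLocus (V.1.ι ≫ f)).isLocallyConstructible

end Groth.Agent.CM62
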